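import Groth.Agent.Assoc.BundleQuot
import Groth.Agent.Assoc.Kernel
import Groth.Agent.HMu.Translate
import Groth.Prelude.Def_ChGrp
import Mathlib.AlgebraicGeometry.Sites.Fpqc

/-!
# Torsors under an extension: the pushed-forward torsor and the residual torsor
-/

set_option autoImplicit false
set_option backward.isDefEq.respectTransparency false
set_option linter.style.haveILetI false

universe u

open CategoryTheory CategoryTheory.Limits MonoidalCategory CartesianMonoidalCategory MonObj GrpObj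
  AlgebraicGeometry

noncomputable section

namespace Groth.Agent.SpecialExt

variable {S : Scheme.{u}}

/-- composites of locally trivial morphisms -/
theorem locallyTrivial_comp {K : Precoverage Scheme.{u}} [K.IsStableUnderBaseChange] [K.IsStableUnderComposition]
    {X Y Z : Scheme.{u}} (p : X ⟶ Y) (q : Y ⟶ Z) (hp : NonAbH1.IsLocallyTrivialFor K (Over.mk p))
    (hq : NonAbH1.IsLocallyTrivialFor K (Over.mk q)) : NonAbH1.IsLocallyTrivialFor K (Over.mk (p ≫ q)) := by
  obtain ⟨R, hR, hRs⟩ := hp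
  obtain ⟨R', hR', hR's⟩ := hq
  obtain ⟨I, Y', e, rfl⟩ := R.exists_eq_ofArrows
  obtain ⟨J, Z', d, rfl⟩ := R'.exists_eq_ofArrows
  choose τ hτ using fun j => hR's (d j) ⟨j⟩
  choose σ hσ using fun i => hRs (e i) ⟨i⟩
  refine ⟨_, Precoverage.comp_mem_coverings d hR' (fun j i => pullback.fst (τ j) (e i))
    (fun j => Precoverage.mem_coverings_of_isPullback e hR (τ j) _ (fun i => pullback.snd (τ j) (e i))
      fun i => IsPullback.of_hasPullback (τ j) (e i)), ?_⟩
  rintro _ _ ⟨⟨j, i⟩⟩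
  refine ⟨pullback.snd (τ j) (e i) ≫ σ i, ?_⟩
  change (_ ≫ _) ≫ p ≫ q = pullback.fst (τ j) (e i) ≫ d j
  rw [Category.assoc, ← Category.assoc (σ i), show σ i ≫ p = e i from hσ i, ← Category.assoc,
    ← pullback.condition, Category.assoc, show τ j ≫ q = d j from hτ j]

/-- morphisms descend along flat surjective quasi-compact morphisms -/
theorem exists_desc {A B W : Over S} (π : A ⟶ B) [Flat π.left] [Surjective π.left] [QuasiCompact π.left]
    (c : A ⟶ W) (h : ∀ (T : Over S) (z z' : T ⟶ A), z ≫ π = z' ≫ π → z ≫ c = z' ≫ c) :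
    ∃ r : B ⟶ W, π ≫ r = c := by
  have hc : ∀ {T : Scheme.{u}} (g₁ g₂ : T ⟶ A.left), g₁ ≫ π.left = g₂ ≫ π.left → g₁ ≫ c.left = g₂ ≫ c.left := by
    intro T g₁ g₂ e
    let z : Over.mk (g₁ ≫ A.hom) ⟶ A := Over.homMk g₁ rfl
    let z' : Over.mk (g₁ ≫ A.hom) ⟶ A := Over.homMk g₂ (by
      show g₂ ≫ A.hom = g₁ ≫ A.hom
      rw [← Over.w π, reassoc_of% e])
    exact congr(($(h _ z z' (Over.OverMorphism.ext e))).left)
  let r₀ := EffectiveEpi.desc π.left c.left hc
  have hr : π.left ≫ r₀ = c.left := EffectiveEpi.fac π.left c.left hc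
  refine ⟨Over.homMk r₀ ?_, Over.OverMorphism.ext hr⟩
  rw [← cancel_epi π.left, reassoc_of% hr, Over.w, Over.w]

theorem cancel_cover {A B W : Over S} (π : A ⟶ B) [Flat π.left] [Surjective π.left] [QuasiCompact π.left]
    {r r' : B ⟶ W} (h : π ≫ r = π ≫ r') : r = r' := by
  apply Over.OverMorphism.ext
  rw [← cancel_epi π.left]
  exact congr(($h).left)

/-- the regular action -/
def regular (Q : Over S) [GrpObj Q] : AlgGrp.Action Q Q where
  act := μ
  one_act := MonObj.one_mul Q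
  mul_act := MonObj.mul_assoc Q

variable {G N Q X Y W : Over S} [GrpObj G] [GrpObj N] [GrpObj Q] (a : AlgGrp.Action G X)
  (q : G ⟶ Q) [IsMonHom q] (φ : X ⟶ Y) (π : X ⊗ Q ⟶ W) (ψ : W ⟶ Y)
  (hsq : IsPullback (a.prod ((regular Q).restrict q)).act (snd G (X ⊗ Q)) π π)
  (hpb : IsPullback (fst X Q) π φ ψ)

theorem diag_act {T : Over S} (g : T ⟶ G) (x : T ⟶ X) (h : T ⟶ Q) :
    lift g (lift x h) ≫ (a.prod ((regular Q).restrict q)).act = lift (lift g x ≫ a.act) ((g ≫ q) * h) := by
  rw [AlgGrp.Action.lift_prod_act, AlgGrp.Action.lift_restrict_act]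
  rfl

include hsq in
theorem rel {T : Over S} {x x' : T ⟶ X} {h h' : T ⟶ Q} (e : lift x' h' ≫ π = lift x h ≫ π) :
    ∃ g : T ⟶ G, lift g x ≫ a.act = x' ∧ (g ≫ q) * h = h' ∧
      ∀ g₁ : T ⟶ G, lift g₁ x ≫ a.act = x' → (g₁ ≫ q) * h = h' → g₁ = g := by
  obtain ⟨w, h1, h2⟩ := hsq.exists_lift (lift x' h') (lift x h) e
  have hw : w = lift (w ≫ fst G (X ⊗ Q)) (lift x h) :=
    CartesianMonoidalCategory.hom_ext _ _ (by simp) (by simp [h2])
  rw [hw, diag_act] at h1
  refine ⟨w ≫ fst G (X ⊗ Q), ?_, ?_, fun g₁ hg₁ hg₁' => ?_⟩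
  · simpa using h1 =≫ fst X Q
  · simpa using h1 =≫ snd X Q
  · have : lift g₁ (lift x h) = w := hsq.hom_ext
      (by rw [diag_act, hg₁, hg₁', hw, diag_act, h1]) (by rw [lift_snd, h2])
    rw [← this, lift_fst]

include hsq in
theorem inv {T : Over S} (g : T ⟶ G) (x : T ⟶ X) (h : T ⟶ Q) :
    lift (lift g x ≫ a.act) ((g ≫ q) * h) ≫ π = lift x h ≫ π := by
  rw [← diag_act, Category.assoc, hsq.w, lift_snd_assoc]

/-- the section of the bundle over the torsor -/
abbrev sec : X ⟶ W := lift (𝟙 X) 1 ≫ π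

include hpb in
omit [GrpObj G] in
theorem sec_comp : sec π ≫ ψ = φ := by
  rw [sec, Category.assoc, ← hpb.w, lift_fst_assoc, Category.id_comp]

theorem comp_sec {T : Over S} (x : T ⟶ X) : x ≫ sec π = lift x 1 ≫ π := by
  rw [sec, comp_lift_assoc, Category.comp_id, MonObj.comp_one]

include hsq in
theorem isPullback_sec (iN : N ⟶ G) [IsMonHom iN] (hker : AlgGrp.IsKernel iN q) :
    IsPullback (a.restrict iN).act (snd N X) (sec π) (sec π) := by
  have hk : ∀ {T : Over S} (n : T ⟶ N), (n ≫ iN) ≫ q = 1 := fun n => by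
    rw [Category.assoc, hker.w, ← Category.assoc, toUnit_unique (n ≫ toUnit N) (toUnit _), Hom.one_def]
  refine ⟨⟨?_⟩, ?_⟩
  · have h := inv a q π hsq (fst N X ≫ iN) (snd N X) 1
    rw [hk, _root_.one_mul, ← AlgGrp.Action.lift_restrict_act, lift_fst_snd, Category.id_comp] at h
    rw [comp_sec, comp_sec, h]
  · have key : ∀ (s : PullbackCone (sec π) (sec π)), ∃ n : s.pt ⟶ N, lift n s.snd ≫ (a.restrict iN).act = s.fst ∧
        ∀ n', lift n' s.snd ≫ (a.restrict iN).act = s.fst → n' = n := fun s => by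
      obtain ⟨g, hg, hgq, hu⟩ := rel a q π hsq (by
        have := s.condition
        simpa only [comp_sec] using this)
      rw [_root_.mul_one] at hgq
      obtain ⟨n, hn, -⟩ := hker.exists_lift g (toUnit _) (by rw [hgq, Hom.one_def])
      refine ⟨n, by rw [AlgGrp.Action.lift_restrict_act, hn, hg], fun n' hn' => ?_⟩
      rw [AlgGrp.Action.lift_restrict_act] at hn'
      apply hker.hom_ext
      · rw [hu _ hn' (by rw [hk, _root_.one_mul]), hn]
      · exact toUnit_unique _ _
    choose n hn hu using key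
    exact ⟨PullbackCone.IsLimit.mk _ (fun s => lift (n s) s.snd) hn (fun s => lift_snd _ _) fun s m h1 h2 => by
      have hm : m = lift (m ≫ fst N X) s.snd := CartesianMonoidalCategory.hom_ext _ _ (by simp) (by simp [← h2])
      rw [hm, hu s (m ≫ fst N X) (by rw [← hm]; exact h1)]⟩

include hsq in
theorem isLocallyTrivial_sec [Flat π.left] [Surjective π.left] [QuasiCompact π.left]
    [Flat q.left] [Surjective q.left] [QuasiCompact q.left] :
    NonAbH1.IsLocallyTrivialFor Scheme.fpqcPrecoverage (Over.mk (sec π).left : Over W.left) := by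
  let sh : G ⊗ X ≅ G ⊗ X :=
    { hom := lift (fst G X) a.act
      inv := lift (fst G X) (lift (fst G X)⁻¹ (snd G X) ≫ a.act)
      hom_inv_id := by
        apply CartesianMonoidalCategory.hom_ext
        · simp
        · have hact : ∀ g : G ⊗ X ⟶ G, lift g a.act = lift g (lift (fst G X) (snd G X) ≫ a.act) := fun g => by
            rw [lift_fst_snd, Category.id_comp]
          rw [Category.assoc, lift_snd, comp_lift_assoc, GrpObj.comp_inv, lift_fst, lift_snd,
            hact, HMu.act_act, inv_mul_cancel, HMu.one_act, Category.id_comp]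
      inv_hom_id := by
        apply CartesianMonoidalCategory.hom_ext
        · simp
        · rw [Category.assoc, lift_snd, HMu.act_act, mul_inv_cancel, HMu.one_act, Category.id_comp] }
  let ξ : G ⊗ X ⟶ W := sh.hom ≫ (q ▷ X) ≫ (β_ Q X).hom ≫ π
  have hξ : snd G X ≫ sec π = ξ := by
    have h := inv a q π hsq (fst G X) (snd G X) 1
    rw [_root_.mul_one, lift_fst_snd, Category.id_comp] at h
    rw [comp_sec, ← h]
    show _ = sh.hom ≫ (q ▷ X) ≫ (β_ Q X).hom ≫ π
    simp only [← Category.assoc]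
    congr 1
    apply CartesianMonoidalCategory.hom_ext <;> simp [sh]
  haveI : IsIso sh.hom.left := ((Over.forget S).mapIso sh).isIso_hom
  haveI : IsIso (β_ Q X).hom.left := ((Over.forget S).mapIso (β_ Q X)).isIso_hom
  have hqX := Assoc.isPullback_whiskerRight (Z := X) q
  haveI : Flat (q ▷ X).left := MorphismProperty.of_isPullback hqX ‹_›
  haveI : Surjective (q ▷ X).left := MorphismProperty.of_isPullback hqX ‹_›
  haveI : QuasiCompact (q ▷ X).left := MorphismProperty.of_isPullback hqX ‹_›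
  haveI : Flat ξ.left := inferInstanceAs (Flat (sh.hom.left ≫ (q ▷ X).left ≫ (β_ Q X).hom.left ≫ π.left))
  haveI : Surjective ξ.left := inferInstanceAs (Surjective (sh.hom.left ≫ (q ▷ X).left ≫ (β_ Q X).hom.left ≫ π.left))
  haveI : QuasiCompact ξ.left := inferInstanceAs (QuasiCompact (sh.hom.left ≫ (q ▷ X).left ≫ (β_ Q X).hom.left ≫ π.left))
  refine ⟨Presieve.singleton ξ.left, ξ.left.singleton_mem_fpqcPrecoverage, ?_⟩
  rintro _ _ ⟨⟩
  exact ⟨(snd G X).left, congr(($hξ).left)⟩

include hsq hpb in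
/-- the pushed-forward torsor -/
theorem exists_action [Flat π.left] [Surjective π.left] [QuasiCompact π.left] :
    ∃ b : AlgGrp.Action Q W, IsPullback b.act (snd Q W) ψ ψ := by
  have hQπ := Assoc.isPullback_whiskerLeft (Z := Q) π
  haveI : Flat (Q ◁ π).left := MorphismProperty.of_isPullback hQπ ‹_›
  haveI : Surjective (Q ◁ π).left := MorphismProperty.of_isPullback hQπ ‹_›
  haveI : QuasiCompact (Q ◁ π).left := MorphismProperty.of_isPullback hQπ ‹_›
  let x₀ := snd Q (X ⊗ Q) ≫ fst X Q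
  let h₀ := snd Q (X ⊗ Q) ≫ snd X Q
  let c := lift x₀ (h₀ * (fst Q (X ⊗ Q))⁻¹) ≫ π
  have hc : ∀ {T : Over S} (k : T ⟶ Q) (x : T ⟶ X) (h : T ⟶ Q),
      lift k (lift x h) ≫ c = lift x (h * k⁻¹) ≫ π := fun k x h => by
    simp only [c, x₀, h₀, comp_lift_assoc, comp_mul, GrpObj.comp_inv, lift_fst, lift_snd_assoc, lift_snd]
  obtain ⟨r, hr⟩ := exists_desc (Q ◁ π) c fun T z z' e => by
    have hz : ∀ w : T ⟶ Q ⊗ (X ⊗ Q), w = lift (w ≫ fst _ _) (lift (w ≫ snd _ _ ≫ fst _ _) (w ≫ snd _ _ ≫ snd _ _)) :=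
      fun w => by
        apply CartesianMonoidalCategory.hom_ext
        · simp
        · apply CartesianMonoidalCategory.hom_ext <;> simp
    rw [hz z, hz z'] at e ⊢
    rw [lift_whiskerLeft, lift_whiskerLeft] at e
    have e1 := e =≫ fst Q W
    have e2 := e =≫ snd Q W
    simp only [lift_fst, lift_snd] at e1 e2
    obtain ⟨g, hg, hgq, -⟩ := rel a q π hsq e2
    rw [hc, hc, e1, ← hg, ← hgq, _root_.mul_assoc, inv a q π hsq]
  have hrp : ∀ {T : Over S} (k : T ⟶ Q) (x : T ⟶ X) (h : T ⟶ Q),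
      lift k (lift x h ≫ π) ≫ r = lift x (h * k⁻¹) ≫ π := fun k x h => by
    rw [← lift_whiskerLeft, Category.assoc, hr, hc]
  have hrψ : r ≫ ψ = snd Q W ≫ ψ := cancel_cover (Q ◁ π) (by
    rw [← Category.assoc, hr, whiskerLeft_snd_assoc, ← hpb.w]
    simp only [c, x₀, Category.assoc, ← hpb.w, lift_fst_assoc])
  let b : AlgGrp.Action Q W :=
    { act := r
      one_act := by
        have h1 := Assoc.isPullback_whiskerLeft (Z := 𝟙_ (Over S)) π
        haveI : Flat (𝟙_ (Over S) ◁ π).left := MorphismProperty.of_isPullback h1 ‹_›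
        haveI : Surjective (𝟙_ (Over S) ◁ π).left := MorphismProperty.of_isPullback h1 ‹_›
        haveI : QuasiCompact (𝟙_ (Over S) ◁ π).left := MorphismProperty.of_isPullback h1 ‹_›
        refine cancel_cover (𝟙_ (Over S) ◁ π) ?_
        have e : (𝟙_ (Over S) ◁ π) ≫ (η[Q] ▷ W) =
            lift 1 (lift (snd _ (X ⊗ Q) ≫ fst X Q) (snd _ (X ⊗ Q) ≫ snd X Q) ≫ π) := by
          apply CartesianMonoidalCategory.hom_ext
          · simp [Hom.one_def]
          · rw [← comp_lift, lift_fst_snd, Category.comp_id]; simp [leftUnitor_hom]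
        rw [reassoc_of% e, hrp, inv_one, _root_.mul_one, ← comp_lift, lift_fst_snd, Category.comp_id,
          leftUnitor_hom, whiskerLeft_snd]
      mul_act := by
        have h1 := Assoc.isPullback_whiskerLeft (Z := Q ⊗ Q) π
        haveI : Flat ((Q ⊗ Q) ◁ π).left := MorphismProperty.of_isPullback h1 ‹_›
        haveI : Surjective ((Q ⊗ Q) ◁ π).left := MorphismProperty.of_isPullback h1 ‹_›
        haveI : QuasiCompact ((Q ⊗ Q) ◁ π).left := MorphismProperty.of_isPullback h1 ‹_›
        refine cancel_cover ((Q ⊗ Q) ◁ π) ?_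
        let k := fst (Q ⊗ Q) (X ⊗ Q) ≫ fst Q Q
        let k' := fst (Q ⊗ Q) (X ⊗ Q) ≫ snd Q Q
        let x := snd (Q ⊗ Q) (X ⊗ Q) ≫ fst X Q
        let h := snd (Q ⊗ Q) (X ⊗ Q) ≫ snd X Q
        have e0 : ((Q ⊗ Q) ◁ π) = lift (lift k k') (lift x h ≫ π) := by
          apply CartesianMonoidalCategory.hom_ext
          · simp only [k, k', whiskerLeft_fst, lift_fst, ← comp_lift, lift_fst_snd, Category.comp_id]
          · simp only [x, h, whiskerLeft_snd, lift_snd, ← comp_lift, lift_fst_snd, Category.comp_id]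
        rw [e0, lift_whiskerRight_assoc, ← Hom.mul_def, hrp, lift_lift_associator_hom_assoc,
          lift_whiskerLeft_assoc, hrp, hrp, _root_.mul_inv_rev, _root_.mul_assoc] }
  refine ⟨b, ⟨hrψ⟩, ?_⟩
  have key : ∀ (s : PullbackCone ψ ψ), ∃ g : s.pt ⟶ Q, lift g s.snd ≫ r = s.fst ∧
      ∀ g', lift g' s.snd ≫ r = s.fst → g' = g := fun s => by
    let T' : Over S := Over.mk (pullback.fst s.snd.left π.left ≫ s.pt.hom)
    let p : T' ⟶ s.pt := Over.homMk (pullback.fst s.snd.left π.left) rfl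
    let z : T' ⟶ X ⊗ Q := Over.homMk (pullback.snd s.snd.left π.left) (by
      show _ = pullback.fst s.snd.left π.left ≫ s.pt.hom
      rw [← Over.w π, ← pullback.condition_assoc, Over.w])
    haveI : Flat p.left := inferInstanceAs (Flat (pullback.fst s.snd.left π.left))
    haveI : Surjective p.left := MorphismProperty.pullback_fst (P := @Surjective) _ _ ‹_›
    haveI : QuasiCompact p.left := inferInstanceAs (QuasiCompact (pullback.fst s.snd.left π.left))
    have hz : p ≫ s.snd = z ≫ π := Over.OverMorphism.ext pullback.condition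
    have val : ∀ {U : Over S} (t : U ⟶ s.pt) (w : U ⟶ X ⊗ Q), t ≫ s.snd = w ≫ π →
        ∃ g : U ⟶ Q, lift g (t ≫ s.snd) ≫ r = t ≫ s.fst ∧
          ∀ g', lift g' (t ≫ s.snd) ≫ r = t ≫ s.fst → g' = g := by
      intro U t w hw
      have hx : (w ≫ fst X Q) ≫ φ = (t ≫ s.fst) ≫ ψ := by
        rw [Category.assoc, hpb.w, ← Category.assoc, ← hw, Category.assoc, ← s.condition, Category.assoc]
      obtain ⟨w', hw'1, hw'2⟩ := hpb.exists_lift (w ≫ fst X Q) (t ≫ s.fst) hx
      have hw' : lift (w ≫ fst X Q) (w' ≫ snd X Q) = w' :=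
        CartesianMonoidalCategory.hom_ext _ _ (by simp [hw'1]) (by simp)
      have hwl : w = lift (w ≫ fst X Q) (w ≫ snd X Q) := (lift_comp_fst_snd w).symm
      refine ⟨(w' ≫ snd X Q)⁻¹ * (w ≫ snd X Q), ?_, fun g' hg' => ?_⟩
      · rw [hw, hwl, hrp, ← hwl, _root_.mul_inv_rev, _root_.inv_inv, mul_inv_cancel_left, hw', hw'2]
      · rw [hw, hwl, hrp] at hg'
        have he : lift (w ≫ fst X Q) ((w ≫ snd X Q) * g'⁻¹) = w' :=
          hpb.hom_ext (by rw [lift_fst, hw'1]) (hg'.trans hw'2.symm)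
        rw [← he, lift_snd, _root_.mul_inv_rev, _root_.inv_inv, inv_mul_cancel_right]
    obtain ⟨v, hv, hvu⟩ := val p z hz
    obtain ⟨g, hg⟩ := exists_desc p v fun U t t' e => by
      obtain ⟨v', -, hv'u⟩ := val (t ≫ p) (t ≫ z) (by rw [Category.assoc, hz, Category.assoc])
      have h1 := t ≫= hv
      have h2 := t' ≫= hv
      simp only [comp_lift_assoc, ← Category.assoc t p] at h1
      simp only [comp_lift_assoc, ← Category.assoc t' p, ← e] at h2
      rw [hv'u _ h1, hv'u _ h2]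
    refine ⟨g, cancel_cover p (by rw [comp_lift_assoc, hg, hv]), fun g' hg' => cancel_cover p ?_⟩
    rw [hg, hvu (p ≫ g') (by rw [← hg', comp_lift_assoc])]
  choose g hg hu using key
  exact ⟨PullbackCone.IsLimit.mk _ (fun s => lift (g s) s.snd) hg (fun s => lift_snd _ _) fun s m h1 h2 => by
    have hm : m = lift (m ≫ fst Q W) s.snd := CartesianMonoidalCategory.hom_ext _ _ (by simp) (by simp [← h2])
    rw [hm, hu s (m ≫ fst Q W) (by rw [← hm]; exact h1)]⟩

end Groth.Agent.SpecialExt
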